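import Groth.Prelude.Def_FreeSh
import Groth.Prelude.Def_CohCx
import Groth.Agent.H15Site.SiteInst
import Mathlib.Algebra.Homology.DerivedCategory.KInjective
import Mathlib.Algebra.Homology.HomotopyCategory.HomComplexSingle
import Mathlib.Algebra.Homology.ShortComplex.FunctorEquivalence
import Mathlib.CategoryTheory.Abelian.FunctorCategory

/-!
# Hypercohomology of a K-injective complex is the cohomology of its sections, naturally
-/

set_option autoImplicit false
set_option linter.style.haveILetI false
set_option linter.unusedSectionVars false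
set_option backward.isDefEq.respectTransparency false
set_option backward.isDefEq.respectTransparency.types false

universe u

open CategoryTheory CategoryTheory.Limits Opposite CochainComplex.HomComplex

namespace Groth.Agent.H15Site.CechTot2

attribute [local instance 10000] SiteInst.hasSheafifySite SiteInst.hasWeakSheafifySite

variable {C : Type u} [SmallCategory C] {J : GrothendieckTopology C}
  [HasDerivedCategory.{u} (Sheaf J AddCommGrpCat.{u})]
  (I : CochainComplex (Sheaf J AddCommGrpCat.{u}) ℤ) (m : ℤ)

/-- The class of a cocycle out of the free sheaf. -/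
noncomputable def clsZ (U : C) :
    Cocycle ((CochainComplex.singleFunctor _ 0).obj (CohCx.freeSheaf J U)) I m →+
      CohCx.HDU (DerivedCategory.Q.obj I) m U :=
  AddMonoidHom.mk' (fun z => (DerivedCategory.singleFunctorIsoCompQ _ 0).hom.app (CohCx.freeSheaf J U) ≫
      DerivedCategory.Q.map (Cocycle.equivHomShift.symm z) ≫ (DerivedCategory.Q.commShiftIso m).hom.app I)
    fun a b => by simp [map_add]

theorem clsZ_precomp {U V : C} (f : V ⟶ U)
    (z : Cocycle ((CochainComplex.singleFunctor _ 0).obj (CohCx.freeSheaf J U)) I m) :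
    clsZ I m V (z.precomp ((CochainComplex.singleFunctor _ 0).map (CohCx.freeSheafMap J f))) =
      CohCx.HDUres (DerivedCategory.Q.obj I) m f (clsZ I m U z) := by
  show _ ≫ DerivedCategory.Q.map _ ≫ _ = (DerivedCategory.singleFunctor _ 0).map _ ≫ _
  rw [Cocycle.equivHomShift_symm_precomp, Functor.map_comp, Category.assoc]
  exact ((DerivedCategory.singleFunctorIsoCompQ _ 0).hom.naturality_assoc (CohCx.freeSheafMap J f) _).symm

section KInj

variable [I.IsKInjective]

theorem exists_clsZ (U : C) (y : CohCx.HDU (DerivedCategory.Q.obj I) m U) : ∃ z, clsZ I m U z = y := by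
  let F := CohCx.freeSheaf J U
  obtain ⟨g, hg⟩ := (CochainComplex.IsKInjective.Qh_map_bijective
      ((HomotopyCategory.quotient _ _).obj ((CochainComplex.singleFunctor _ 0).obj F)) (I⟦m⟧)).2
    ((DerivedCategory.quotientCompQhIso _).hom.app _ ≫ (DerivedCategory.singleFunctorIsoCompQ _ 0).inv.app F ≫
      y ≫ (DerivedCategory.Q.commShiftIso m).inv.app I ≫ (DerivedCategory.quotientCompQhIso _).inv.app _)
  obtain ⟨f, rfl⟩ := (HomotopyCategory.quotient _ _).map_surjective g
  refine ⟨Cocycle.equivHomShift f, ?_⟩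
  show _ ≫ DerivedCategory.Q.map (Cocycle.equivHomShift.symm (Cocycle.equivHomShift f)) ≫ _ = y
  rw [AddEquiv.symm_apply_apply]
  have hn := (DerivedCategory.quotientCompQhIso (Sheaf J AddCommGrpCat.{u})).hom.naturality f
  have hQ : DerivedCategory.Q.map f = (DerivedCategory.singleFunctorIsoCompQ _ 0).inv.app F ≫
      y ≫ (DerivedCategory.Q.commShiftIso m).inv.app I := by
    refine (cancel_epi ((DerivedCategory.quotientCompQhIso (Sheaf J AddCommGrpCat.{u})).hom.app
      ((CochainComplex.singleFunctor (Sheaf J AddCommGrpCat.{u}) 0).obj (CohCx.freeSheaf J U)))).1 (hn.symm.trans ?_)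
    rw [Functor.comp_map]
    rw [hg]
    simp [F]
  rw [hQ]
  simp [F]

theorem clsZ_eq_zero (U : C)
    (z : Cocycle ((CochainComplex.singleFunctor _ 0).obj (CohCx.freeSheaf J U)) I m) (hz : clsZ I m U z = 0) :
    z ∈ coboundaries _ _ _ := by
  rw [← CohomologyClass.toHom_mk_eq_zero_iff, CohomologyClass.toHom_mk]
  apply (CochainComplex.IsKInjective.Qh_map_bijective
      ((HomotopyCategory.quotient _ _).obj ((CochainComplex.singleFunctor _ 0).obj (CohCx.freeSheaf J U))) (I⟦m⟧)).1
  rw [Functor.map_zero]
  change _ ≫ DerivedCategory.Q.map (Cocycle.equivHomShift.symm z) ≫ _ = 0 at hz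
  rw [← Category.assoc] at hz
  have h1 : DerivedCategory.Q.map (Cocycle.equivHomShift.symm z) = 0 := by
    have h2 := (cancel_mono ((DerivedCategory.Q.commShiftIso m).hom.app I)).1 (hz.trans zero_comp.symm)
    exact (cancel_epi ((DerivedCategory.singleFunctorIsoCompQ _ 0).hom.app _)).1 (h2.trans comp_zero.symm)
  have hn := (DerivedCategory.quotientCompQhIso (Sheaf J AddCommGrpCat.{u})).hom.naturality (Cocycle.equivHomShift.symm z)
  rw [h1, comp_zero] at hn
  exact (cancel_mono _).1 (hn.trans zero_comp.symm)

end KInj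

theorem clsZ_coboundary (U : C)
    (z : Cocycle ((CochainComplex.singleFunctor _ 0).obj (CohCx.freeSheaf J U)) I m) (hz : z ∈ coboundaries _ _ _) :
    clsZ I m U z = 0 := by
  rw [← CohomologyClass.toHom_mk_eq_zero_iff, CohomologyClass.toHom_mk] at hz
  have hn := (DerivedCategory.quotientCompQhIso (Sheaf J AddCommGrpCat.{u})).hom.naturality (Cocycle.equivHomShift.symm z)
  have h1 : DerivedCategory.Q.map (Cocycle.equivHomShift.symm z) = 0 := by
    refine (cancel_epi ((DerivedCategory.quotientCompQhIso (Sheaf J AddCommGrpCat.{u})).hom.app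
      ((CochainComplex.singleFunctor (Sheaf J AddCommGrpCat.{u}) 0).obj (CohCx.freeSheaf J U)))).1 (hn.symm.trans ?_)
    rw [Functor.comp_map]
    rw [hz, Functor.map_zero, zero_comp, comp_zero]
  show _ ≫ DerivedCategory.Q.map _ ≫ _ = 0
  rw [h1, zero_comp, comp_zero]

/-! ### The natural isomorphism -/

/-- The complex of presheaves. -/
noncomputable abbrev PI : CochainComplex (Cᵒᵖ ⥤ AddCommGrpCat.{u}) ℤ :=
  ((sheafToPresheaf J AddCommGrpCat.{u}).mapHomologicalComplex (ComplexShape.up ℤ)).obj I

/-- The section underlying a cycle. -/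
noncomputable abbrev sec {U : C} (x : ((PI I).cycles m).obj (op U)) : (I.X m).obj.obj (op U) :=
  (((PI I).iCycles m).app (op U)).hom x

theorem ofSect_sec_d {U : C} (x : ((PI I).cycles m).obj (op U)) :
    CohFree.ofSect J U (I.X m) (sec I m x) ≫ I.d m (m + 1) = 0 := by
  apply (CohFree.homEquivSect J U (I.X (m + 1))).injective
  rw [map_zero]
  show ((I.d m (m + 1)).hom.app (op U)).hom (CohFree.evalGen J U (I.X m) (CohFree.ofSect J U (I.X m) (sec I m x))) = 0
  rw [CohFree.evalGen_ofSect]
  exact ConcreteCategory.congr_hom (NatTrans.congr_app ((PI I).iCycles_d m (m + 1)) (op U)) x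

/-- The cocycle of a cycle. -/
noncomputable def cocy (U : C) :
    ((PI I).cycles m).obj (op U) →+ Cocycle ((CochainComplex.singleFunctor _ 0).obj (CohCx.freeSheaf J U)) I m :=
  AddMonoidHom.mk' (fun x => Cocycle.fromSingleMk (CohFree.ofSect J U (I.X m) (sec I m x)) (zero_add m) (m + 1) rfl
    (ofSect_sec_d I m x)) fun a b => by
    rw [← Cocycle.fromSingleMk_add]
    congr 1
    rw [← CohFree.homEquivSect_symm_apply, ← CohFree.homEquivSect_symm_apply, ← CohFree.homEquivSect_symm_apply,
      ← map_add, sec, map_add]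

/-- Cycles to hypercohomology. -/
noncomputable def θcyc : (PI I).cycles m ⟶ CohCx.HDUPresheaf (DerivedCategory.Q.obj I) m where
  app U := AddCommGrpCat.ofHom ((clsZ I m U.unop).comp (cocy I m U.unop))
  naturality U V g := by
    ext x
    refine Eq.trans ?_ (clsZ_precomp I m g.unop (cocy I m U.unop x))
    refine congrArg (clsZ I m V.unop) ?_
    show Cocycle.fromSingleMk _ (zero_add m) (m + 1) rfl (ofSect_sec_d I m _) = _
    have h : CohFree.ofSect J V.unop (I.X m) (sec I m ((((PI I).cycles m).map g).hom x)) =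
        CohCx.freeSheafMap J g.unop ≫ CohFree.ofSect J U.unop (I.X m) (sec I m x) := by
      apply (CohFree.homEquivSect J V.unop (I.X m)).injective
      rw [CohFree.homEquivSect_apply, CohFree.homEquivSect_apply, CohFree.evalGen_ofSect,
        CohFree.evalGen_freeSheafMap_comp, CohFree.evalGen_ofSect]
      exact ConcreteCategory.congr_hom (((PI I).iCycles m).naturality g) x
    refine Eq.trans ?_ (Cocycle.fromSingleMk_precomp (CohCx.freeSheafMap J g.unop)
      (CohFree.ofSect J U.unop (I.X m) (sec I m x)) (zero_add m) (m + 1) rfl (ofSect_sec_d I m x))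
    ext : 1
    simp only [Cocycle.fromSingleMk_coe]
    exact congrArg (fun k => Cochain.fromSingleMk k (zero_add m)) h

theorem nonempty_iso [I.IsKInjective] :
    Nonempty ((PI I).homology m ≅ CohCx.HDUPresheaf (DerivedCategory.Q.obj I) m) := by
  have hw : (PI I).toCycles (m - 1) m ≫ θcyc I m = 0 := by
    ext U y
    refine clsZ_coboundary I m U.unop _ ?_
    refine (Cocycle.fromSingleMk_mem_coboundaries_iff _ (zero_add m) (m + 1) rfl (ofSect_sec_d I m _) (m - 1) (by omega)).2
      ⟨CohFree.ofSect J U.unop (I.X (m - 1)) y, ?_⟩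
    apply (CohFree.homEquivSect J U.unop (I.X m)).injective
    rw [CohFree.homEquivSect_apply, CohFree.homEquivSect_apply, CohFree.evalGen_ofSect]
    refine Eq.trans (b := ((I.d (m - 1) m).hom.app (op U.unop)).hom
      (CohFree.evalGen J U.unop (I.X (m - 1)) (CohFree.ofSect J U.unop (I.X (m - 1)) y))) rfl ?_
    rw [CohFree.evalGen_ofSect]
    exact (ConcreteCategory.congr_hom (NatTrans.congr_app ((PI I).toCycles_i (m - 1) m) U) y).symm
  let S := ShortComplex.mk _ _ hw
  haveI : Epi S.g := by
    show Epi (θcyc I m)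
    haveI : ∀ U, Epi ((θcyc I m).app U) := fun U => by
      obtain ⟨U⟩ := U
      rw [AddCommGrpCat.epi_iff_surjective]
      intro y
      obtain ⟨z, rfl⟩ := exists_clsZ I m U y
      obtain ⟨φ, hφ, rfl⟩ := Cocycle.fromSingleMk_surjective z m (zero_add m) (m + 1) rfl
      let s := CohFree.homEquivSect J U (I.X m) φ
      have hs : (((PI I).d m (m + 1)).app (op U)).hom s = 0 := by
        show ((I.d m (m + 1)).hom.app (op U)).hom (CohFree.evalGen J U (I.X m) φ) = 0
        exact congrArg (CohFree.evalGen J U (I.X (m + 1))) hφ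
      let K := ShortComplex.mk ((PI I).iCycles m) ((PI I).d m (m + 1)) ((PI I).iCycles_d _ _)
      have hK : K.Exact := ShortComplex.exact_of_f_is_kernel _ ((PI I).cyclesIsKernel m (m + 1) (by simp))
      obtain ⟨x, hx⟩ := (ShortComplex.ab_exact_iff _).1
        (hK.map ((evaluation _ AddCommGrpCat.{u}).obj (op U))) s hs
      refine ⟨x, congrArg (clsZ I m U) ?_⟩
      show Cocycle.fromSingleMk _ (zero_add m) (m + 1) rfl (ofSect_sec_d I m _) = _
      ext : 1
      simp only [Cocycle.fromSingleMk_coe]
      rw [show sec I m x = s from hx]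
      exact congrArg (fun k => Cochain.fromSingleMk k (zero_add m)) ((CohFree.homEquivSect J U (I.X m)).symm_apply_apply φ)
    exact NatTrans.epi_of_epi_app _
  have hS : S.Exact := by
    rw [ShortComplex.exact_iff_isZero_homology]
    refine Functor.isZero _ fun U => ?_
    obtain ⟨U⟩ := U
    refine IsZero.of_iso ?_ (S.mapHomologyIso ((evaluation _ AddCommGrpCat.{u}).obj (op U))).symm
    rw [← ShortComplex.exact_iff_isZero_homology, ShortComplex.ab_exact_iff]
    intro x hx
    have hb := clsZ_eq_zero I m U _ hx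
    obtain ⟨g, hg⟩ := (Cocycle.fromSingleMk_mem_coboundaries_iff _ (zero_add m) (m + 1) rfl (ofSect_sec_d I m x) (m - 1) (by omega)).1 hb
    refine ⟨CohFree.homEquivSect J U (I.X (m - 1)) g, ?_⟩
    haveI : Mono (((PI I).iCycles m).app (op U)) := inferInstance
    apply (AddCommGrpCat.mono_iff_injective (((PI I).iCycles m).app (op U))).1 inferInstance
    refine (ConcreteCategory.congr_hom (NatTrans.congr_app ((PI I).toCycles_i (m - 1) m) (op U)) _).trans ?_
    exact (congrArg (CohFree.evalGen J U (I.X m)) hg).trans (CohFree.evalGen_ofSect J U (I.X m) _)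
  exact ⟨((PI I).homologyIsCokernel (m - 1) m (by simp)).coconePointUniqueUpToIso hS.gIsCokernel⟩

end Groth.Agent.H15Site.CechTot2
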