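import Groth.Prelude.Def_HTor
import Mathlib.Algebra.Homology.HomologicalComplexAbelian
import Mathlib.Algebra.Homology.HomologySequence
import Mathlib.Algebra.Homology.ShortComplex.Ab

/-!
# The filtration of an exact couple: a resolution of a complex of abelian groups by complexes

For `0 ⟶ A ⟶ D⁰ ⟶ D¹ ⟶ ⋯` exact, with `D^p` uniformly bounded below, `H^n(A)` has a finite
filtration whose graded pieces are subquotients of the cohomology of `p ↦ H^{n-p}(D^p)`.
-/

set_option autoImplicit false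
set_option linter.style.haveILetI false
set_option linter.unusedSectionVars false
set_option backward.isDefEq.respectTransparency false
set_option backward.isDefEq.respectTransparency.types false

universe u

open CategoryTheory CategoryTheory.Limits

namespace Groth.Agent.H15Site.CechTot2

/-- A quotient through two maps is a subquotient. -/
theorem isSubquotient_of {H N T : Type u} [AddCommGroup H] [AddCommGroup N] [AddCommGroup T]
    (φ : H →ₗ[ℤ] N) (hφ : Function.Surjective φ) (ψ : H →ₗ[ℤ] T) (h : ∀ x, ψ x = 0 → φ x = 0) :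
    HTor.IsSubquotient ℤ N T := by
  let S := (LinearMap.ker φ).map ψ
  let S' := LinearMap.range ψ
  have hS : S ≤ S' := LinearMap.map_le_range
  refine ⟨S, S', hS, ?_⟩
  let q : H →ₗ[ℤ] ↥S' ⧸ Submodule.comap S'.subtype S := (Submodule.mkQ _).comp ψ.rangeRestrict
  have hq : Function.Surjective q := (Submodule.mkQ_surjective _).comp ψ.surjective_rangeRestrict
  have hk : LinearMap.ker q = LinearMap.ker φ := by
    ext x
    simp only [q, LinearMap.mem_ker, LinearMap.comp_apply, Submodule.mkQ_apply, Submodule.Quotient.mk_eq_zero,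
      Submodule.mem_comap, Submodule.coe_subtype]
    refine ⟨fun hx => ?_, fun hx => ⟨x, hx, rfl⟩⟩
    obtain ⟨y, hy, hyx⟩ := hx
    have hxy : φ (x - y) = 0 := h _ (by rw [map_sub, hyx]; exact sub_self _)
    rw [map_sub, LinearMap.mem_ker.1 hy, sub_zero] at hxy
    exact hxy
  exact ⟨((φ.quotKerEquivOfSurjective hφ).symm.trans (Submodule.quotEquivOfEq _ _ hk.symm)).trans
    (q.quotKerEquivOfSurjective hq)⟩

variable {A : CochainComplex AddCommGrpCat.{u} ℤ} (DD : CochainComplex (CochainComplex AddCommGrpCat.{u} ℤ) ℕ)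
  (ε : A ⟶ DD.X 0) (hw : ε ≫ DD.d 0 1 = 0)

/-- The cycle complexes. -/
noncomputable def Z : ℕ → CochainComplex AddCommGrpCat.{u} ℤ
  | 0 => A
  | p + 1 => kernel (DD.d (p + 1) (p + 1 + 1))

/-- Their inclusions. -/
noncomputable def ι : ∀ p, Z (A := A) DD p ⟶ DD.X p
  | 0 => ε
  | p + 1 => kernel.ι (DD.d (p + 1) (p + 1 + 1))

/-- The projections. -/
noncomputable def π (p : ℕ) : DD.X p ⟶ Z (A := A) DD (p + 1) :=
  kernel.lift _ (DD.d p (p + 1)) (DD.d_comp_d _ _ _)

theorem π_ι (p : ℕ) : π (A := A) DD p ≫ ι DD ε (p + 1) = DD.d p (p + 1) := kernel.lift_ι _ _ _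

include hw in
theorem ι_d : ∀ p, ι DD ε p ≫ DD.d p (p + 1) = 0
  | 0 => hw
  | _ + 1 => kernel.condition _

instance mono_ι [Mono ε] : ∀ p, Mono (ι DD ε p)
  | 0 => inferInstanceAs (Mono ε)
  | p + 1 => inferInstanceAs (Mono (kernel.ι (DD.d (p + 1) (p + 1 + 1))))

include hw in
theorem ι_π (p : ℕ) : ι DD ε p ≫ π (A := A) DD p = 0 := by
  haveI : Mono (ι DD ε (p + 1)) := inferInstanceAs (Mono (kernel.ι (DD.d (p + 1) (p + 1 + 1))))
  rw [← cancel_mono (ι DD ε (p + 1)), Category.assoc, π_ι, zero_comp]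
  exact ι_d DD ε hw p

/-- The short complexes. -/
noncomputable abbrev seq (p : ℕ) : ShortComplex (CochainComplex AddCommGrpCat.{u} ℤ) :=
  ShortComplex.mk (ι DD ε p) (π DD p) (ι_π DD ε hw p)

variable [Mono ε] (hex0 : (ShortComplex.mk ε (DD.d 0 1) hw).Exact) (hex : ∀ p, DD.ExactAt (p + 1))

include hex hex0 in
theorem shortExact_seq (p : ℕ) : (seq DD ε hw p).ShortExact := by
  refine { exact := ?_, mono_f := mono_ι DD ε p, epi_g := ?_ }
  · haveI hι : Mono (ι DD ε (p + 1)) := inferInstanceAs (Mono (kernel.ι (DD.d (p + 1) (p + 1 + 1))))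
    have hE : (ShortComplex.mk (ι DD ε p) (DD.d p (p + 1)) (ι_d DD ε hw p)).Exact := by
      cases p with
      | zero => exact hex0
      | succ p => exact ShortComplex.exact_kernel _
    let φ : seq DD ε hw p ⟶ ShortComplex.mk (ι DD ε p) (DD.d p (p + 1)) (ι_d DD ε hw p) :=
      { τ₁ := 𝟙 _, τ₂ := 𝟙 _, τ₃ := ι DD ε (p + 1)
        comm₂₃ := by simp [π_ι DD ε p] }
    haveI : Epi φ.τ₁ := inferInstanceAs (Epi (𝟙 _))
    haveI : IsIso φ.τ₂ := inferInstanceAs (IsIso (𝟙 _))
    haveI : Mono φ.τ₃ := hι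
    exact (ShortComplex.exact_iff_of_epi_of_isIso_of_mono φ).2 hE
  · have h := hex p
    rw [DD.exactAt_iff' p (p + 1) (p + 1 + 1) (by simp) (by simp)] at h
    rw [epi_iff_surjective_up_to_refinements]
    intro T z
    obtain ⟨T', a, ha, x, hx⟩ := h.exact_up_to_refinements (z ≫ ι DD ε (p + 1))
      (by
        show (z ≫ ι DD ε (p + 1)) ≫ DD.d (p + 1) (p + 1 + 1) = 0
        rw [Category.assoc, ι_d DD ε hw (p + 1), comp_zero])
    refine ⟨T', a, ha, x, ?_⟩
    haveI : Mono (ι DD ε (p + 1)) := inferInstanceAs (Mono (kernel.ι (DD.d (p + 1) (p + 1 + 1))))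
    rw [← cancel_mono (ι DD ε (p + 1)), Category.assoc, Category.assoc, π_ι]
    exact hx

variable (n : ℤ)

/-- The connecting maps. -/
noncomputable def δ (p : ℕ) (m : ℤ) :
    (Z (A := A) DD (p + 1)).homology m ⟶ (Z (A := A) DD p).homology (m + 1) :=
  (shortExact_seq DD ε hw hex0 hex p).δ m (m + 1) (by simp)

/-- The iterated connecting maps. -/
noncomputable def Δ : ∀ (p : ℕ) (m : ℤ), m + p = n → ((Z (A := A) DD p).homology m ⟶ A.homology n)
  | 0, m, h => eqToHom (congrArg (fun k : ℤ => A.homology k) (show m = n by omega))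
  | p + 1, m, h => δ DD ε hw hex0 hex p m ≫ Δ p (m + 1) (by omega)

/-- The filtration. -/
noncomputable def G (p : ℕ) : Submodule ℤ (A.homology n) :=
  AddSubgroup.toIntSubmodule (Δ DD ε hw hex0 hex n p (n - p) (by omega)).hom.range

theorem mem_G (p : ℕ) (m : ℤ) (h : m + p = n) (x : A.homology n) :
    x ∈ G DD ε hw hex0 hex n p ↔ ∃ z, (Δ DD ε hw hex0 hex n p m h).hom z = x := by
  obtain rfl : m = n - p := by omega
  exact Iff.rfl

theorem Δ_succ (p : ℕ) (m m' : ℤ) (h : m' + (p + 1 : ℕ) = n) (hm : m' + 1 = m) (z : (Z (A := A) DD (p + 1)).homology m') :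
    (Δ DD ε hw hex0 hex n (p + 1) m' h).hom z =
      (Δ DD ε hw hex0 hex n p m (by omega)).hom (((shortExact_seq DD ε hw hex0 hex p).δ m' m (by simpa using hm)).hom z) := by
  subst hm
  rfl

/-- The resolution seen through `H^m`. -/
noncomputable abbrev E (m : ℤ) : CochainComplex AddCommGrpCat.{u} ℕ :=
  ((HomologicalComplex.homologyFunctor AddCommGrpCat.{u} (ComplexShape.up ℤ) m).mapHomologicalComplex _).obj DD

variable (a : ℤ) (hb : ∀ p m, m < a → IsZero ((DD.X p).X m))

include hex0 hex hb in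
theorem exists_filtration :
    ∃ (N : ℕ) (F : ℕ → Submodule ℤ (A.homology n)), Antitone F ∧ F 0 = ⊤ ∧ F N = ⊥ ∧
      F 1 = AddSubgroup.toIntSubmodule (HomologicalComplex.homologyMap ε n).hom.ker ∧
      ∀ p : ℕ, HTor.IsSubquotient ℤ (HTor.grDesc F p) ((E DD (n - p)).homology p) := by
  let hS := shortExact_seq DD ε hw hex0 hex
  let F := G DD ε hw hex0 hex n
  have hstep : ∀ p, F (p + 1) ≤ F p := fun p x hx => by
    obtain ⟨z, rfl⟩ := (mem_G DD ε hw hex0 hex n (p + 1) (n - p - 1) (by omega) x).1 hx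
    refine (mem_G DD ε hw hex0 hex n p (n - p) (by omega) _).2
      ⟨((hS p).δ (n - p - 1) (n - p) (by simp)).hom z, ?_⟩
    exact (Δ_succ DD ε hw hex0 hex n p (n - p) (n - p - 1) (by omega) (by omega) z).symm
  obtain ⟨N, hN⟩ : ∃ N : ℕ, n - (N + 1 : ℕ) < a := ⟨(n - a).toNat, by omega⟩
  refine ⟨N + 1, F, antitone_nat_of_succ_le hstep, ?_, ?_, ?_, fun p => ?_⟩
  · refine eq_top_iff.2 fun x _ => (mem_G DD ε hw hex0 hex n 0 n (by omega) x).2 ⟨x, ?_⟩
    rfl
  · refine eq_bot_iff.2 fun x hx => ?_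
    obtain ⟨z, rfl⟩ := (mem_G DD ε hw hex0 hex n (N + 1) _ (show n - (N + 1 : ℕ) + (N + 1 : ℕ) = n by omega) x).1 hx
    haveI : Mono ((ι DD ε (N + 1)).f (n - (N + 1 : ℕ))) := by
      haveI : Mono (ι DD ε (N + 1)) := mono_ι DD ε (N + 1)
      infer_instance
    have hz : IsZero ((Z (A := A) DD (N + 1)).homology (n - (N + 1 : ℕ))) :=
      ((HomologicalComplex.exactAt_iff _ _).2 (ShortComplex.exact_of_isZero_X₂ _
        (IsZero.of_mono ((ι DD ε (N + 1)).f (n - (N + 1 : ℕ))) (hb _ _ hN)))).isZero_homology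
    haveI := AddCommGrpCat.subsingleton_of_isZero hz
    rw [Subsingleton.elim z 0, map_zero]
    exact zero_mem _
  · ext x
    have h1 := (ShortComplex.ab_exact_iff _).1 ((hS 0).homology_exact₁ (n - 1) n (by simp))
    constructor
    · intro hx
      obtain ⟨z, rfl⟩ := (mem_G DD ε hw hex0 hex n 1 (n - 1) (by omega) x).1 hx
      rw [Δ_succ DD ε hw hex0 hex n 0 n (n - 1) (by omega) (by omega)]
      exact ConcreteCategory.congr_hom ((hS 0).δ_comp (n - 1) n (by simp)) z
    · intro hx
      obtain ⟨z, hz⟩ := h1 x hx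
      refine (mem_G DD ε hw hex0 hex n 1 (n - 1) (by omega) x).2 ⟨z, ?_⟩
      rw [Δ_succ DD ε hw hex0 hex n 0 n (n - 1) (by omega) (by omega)]
      exact hz
  · let m := n - p
    let H := (Z (A := A) DD p).homology m
    let Δp := Δ DD ε hw hex0 hex n p m (by omega)
    have hΔ : ∀ x : H, Δp.hom x ∈ F p := fun x => (mem_G DD ε hw hex0 hex n p m (by omega) _).2 ⟨x, rfl⟩
    let φ : H →+ HTor.grDesc F p :=
      AddMonoidHom.mk' (fun x => Submodule.Quotient.mk ⟨Δp.hom x, hΔ x⟩) fun x y => by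
        rw [← Submodule.Quotient.mk_add]
        exact congrArg Submodule.Quotient.mk (Subtype.ext (map_add _ x y))
    have hφ : Function.Surjective φ := fun w => by
      obtain ⟨⟨v, hv⟩, rfl⟩ := Submodule.Quotient.mk_surjective _ w
      obtain ⟨z, rfl⟩ := (mem_G DD ε hw hex0 hex n p m (by omega) v).1 hv
      exact ⟨z, rfl⟩
    let Em := E DD m
    let i₁ : H ⟶ Em.X p := HomologicalComplex.homologyMap (ι DD ε p) m
    have hi : i₁ ≫ Em.d p (p + 1) = 0 := by
      show HomologicalComplex.homologyMap (ι DD ε p) m ≫ HomologicalComplex.homologyMap (DD.d p (p + 1)) m = 0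
      rw [← HomologicalComplex.homologyMap_comp, ι_d DD ε hw p, HomologicalComplex.homologyMap_zero]
    let ψ : H →+ Em.homology p :=
      (Em.liftCycles i₁ (p + 1) (by simp) hi ≫ Em.homologyπ p).hom
    refine isSubquotient_of φ.toIntLinearMap hφ ψ.toIntLinearMap fun x hx => ?_
    change ψ x = 0 at hx
    show Submodule.Quotient.mk _ = 0
    rw [Submodule.Quotient.mk_eq_zero, Submodule.mem_comap]
    show Δp.hom x ∈ F (p + 1)
    have hy : ∀ x', i₁.hom x' = 0 → Δp.hom x' ∈ F (p + 1) := fun x' hx' => by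
      obtain ⟨w, rfl⟩ := (ShortComplex.ab_exact_iff _).1 ((hS p).homology_exact₁ (m - 1) m (by simp)) x' hx'
      exact (mem_G DD ε hw hex0 hex n (p + 1) (m - 1) (by omega) _).2
        ⟨w, Δ_succ DD ε hw hex0 hex n p m (m - 1) (by omega) (by omega) w⟩
    cases p with
    | zero =>
      refine hy x ?_
      haveI : IsIso (Em.homologyπ 0) := Em.isIso_homologyπ 0 0 (by simp) (Em.shape 0 0 (by simp))
      have h0 : (Em.liftCycles i₁ 1 (by simp) hi).hom x = 0 :=
        ((ConcreteCategory.isIso_iff_bijective (Em.homologyπ 0)).1 inferInstance).1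
          (hx.trans (map_zero (Em.homologyπ 0).hom).symm)
      rw [← Em.liftCycles_i i₁ 1 (by simp) hi]
      exact (congrArg (Em.iCycles 0).hom h0).trans (map_zero _)
    | succ q =>
      have hseq := Em.homologyIsCokernel q (q + 1) (by simp)
      have hexC : (ShortComplex.mk (Em.toCycles q (q + 1)) (Em.homologyπ (q + 1))
          (Em.toCycles_comp_homologyπ _ _)).Exact := ShortComplex.exact_of_g_is_cokernel _ hseq
      obtain ⟨y, hyx⟩ := (ShortComplex.ab_exact_iff _).1 hexC _ hx
      have hyx' : (Em.d q (q + 1)).hom y = i₁.hom x := by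
        have := congrArg (Em.iCycles (q + 1)).hom hyx
        exact (ConcreteCategory.congr_hom (Em.toCycles_i q (q + 1)) y).symm.trans (this.trans
          (ConcreteCategory.congr_hom (Em.liftCycles_i i₁ (q + 1 + 1) (by simp) hi) x))
      let z := (HomologicalComplex.homologyMap (π (A := A) DD q) m).hom y
      have hz : i₁.hom (x - z) = 0 := by
        rw [map_sub, ← hyx']
        refine sub_eq_zero.2 ?_
        show _ = (HomologicalComplex.homologyMap (π (A := A) DD q) m ≫
          HomologicalComplex.homologyMap (ι DD ε (q + 1)) m).hom y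
        rw [← HomologicalComplex.homologyMap_comp, π_ι]
        rfl
      have hz' : Δp.hom z = 0 := by
        rw [Δ_succ DD ε hw hex0 hex n q (m + 1) m (by omega) rfl]
        rw [show ((shortExact_seq DD ε hw hex0 hex q).δ m (m + 1) (by simp)).hom z = 0 from
          ConcreteCategory.congr_hom ((hS q).comp_δ m (m + 1) (by simp)) y, map_zero]
      have := hy _ hz
      rwa [map_sub, hz', sub_zero] at this

end Groth.Agent.H15Site.CechTot2
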