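import Groth.Agent.H15Site.CechTot2.Filt
import Groth.Agent.H15Site.CechTot2.Classes
import Groth.Agent.H15Site.CechLeray
import Groth.Prelude.Def_CechTot
import Groth.Prelude.Def_CohB1
import Mathlib.Algebra.Homology.Factorizations.CM5a

/-!
# The Čech double complex of a bounded below complex of injective sheaves
-/

set_option autoImplicit false
set_option linter.style.haveILetI false
set_option linter.unusedSectionVars false
set_option backward.isDefEq.respectTransparency false
set_option backward.isDefEq.respectTransparency.types false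

universe u

open CategoryTheory CategoryTheory.Limits Opposite TopologicalSpace

namespace Groth.Agent.H15Site.CechTot2

attribute [local instance 10000] SiteInst.hasSheafifySite SiteInst.hasWeakSheafifySite

open CechTop

variable {X : TopCat.{u}} {ι₀ : Type u} (U : ι₀ → Opens X)

/-- The Čech complex functor. -/
noncomputable abbrev Cc : ((Opens X)ᵒᵖ ⥤ AddCommGrpCat.{u}) ⥤ CochainComplex AddCommGrpCat.{u} ℕ :=
  cechComplexFunctor (A := AddCommGrpCat.{u}) U

instance additive_Cc : (Cc U).Additive where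
  map_add {P P' α β} := by
    refine HomologicalComplex.hom_ext _ _ fun p => ?_
    ext x
    refine CechTop.hom_ext U _ fun a => ?_
    show (proj U P' a).hom ((mapC U P (α + β) p).hom x) =
      (proj U P' a).hom ((mapC U P α p).hom x + (mapC U P β p).hom x)
    rw [map_add, proj_mapC, proj_mapC, proj_mapC]
    rfl

/-- Degree `p` of the Čech complex. -/
noncomputable abbrev Gp (p : ℕ) : ((Opens X)ᵒᵖ ⥤ AddCommGrpCat.{u}) ⥤ AddCommGrpCat.{u} :=
  Cc U ⋙ HomologicalComplex.eval _ _ p

/-- The differential as a natural transformation. -/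
noncomputable def τ (p : ℕ) : Gp U p ⟶ Gp U (p + 1) where
  app P := ((Cc U).obj P).d p (p + 1)
  naturality _ _ α := ((Cc U).map α).comm p (p + 1)

instance preservesHomology_Gp (p : ℕ) : (Gp U p).PreservesHomology := by
  refine Functor.preservesHomology_of_map_exact _ fun S hS => ?_
  rw [ShortComplex.ab_exact_iff]
  intro (x : C U S.X₂ p) (hx : (mapC U S.X₂ S.g p).hom x = 0)
  have hx' : ∀ a, (S.g.app (op (cap U a))).hom ((proj U S.X₂ a).hom x) = 0 := fun a => by
    rw [← proj_mapC, hx, map_zero]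
  choose y hy using fun a => (ShortComplex.ab_exact_iff _).1
    (hS.map ((evaluation _ AddCommGrpCat.{u}).obj (op (cap U a)))) _ (hx' a)
  obtain ⟨z, hz⟩ := exists_proj_eq U S.X₁ y
  refine ⟨z, ?_⟩
  show (mapC U S.X₁ S.f p).hom z = x
  refine CechTop.hom_ext U _ fun a => ?_
  rw [proj_mapC, hz]
  exact hy a

variable (hcov : iSup U = ⊤)

/-- The augmentation. -/
noncomputable def η : (evaluation _ AddCommGrpCat.{u}).obj (op (⊤ : Opens X)) ⟶ Gp U 0 where
  app P := CechTop.aug (U := U) (P := P) (fun _ => le_top)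
  naturality P Q α := by
    ext g
    refine CechTop.hom_ext U _ fun a => ?_
    show (proj U Q a).hom ((aug (P := Q) _).hom ((α.app _).hom g)) = (proj U Q a).hom ((mapC U P α 0).hom _)
    rw [proj_mapC]
    erw [proj_aug, proj_aug]
    exact res_map P α _ g

variable (I : CochainComplex (CohTop.Ab X) ℤ)

/-- The complex of global sections. -/
noncomputable abbrev ΓI : CochainComplex AddCommGrpCat.{u} ℤ :=
  (((evaluation _ AddCommGrpCat.{u}).obj (op (⊤ : Opens X))).mapHomologicalComplex _).obj (PI I)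

/-- The Čech double complex, with the Čech degree outside. -/
noncomputable abbrev DD : CochainComplex (CochainComplex AddCommGrpCat.{u} ℤ) ℕ :=
  HomologicalComplex₂.flip (((Cc U).mapHomologicalComplex (ComplexShape.up ℤ)).obj (PI I))

/-- The augmentation of the double complex. -/
noncomputable def eps : ΓI I ⟶ (DD U I).X 0 :=
  (NatTrans.mapHomologicalComplex (η U) (ComplexShape.up ℤ)).app (PI I)

theorem eps_d : eps U I ≫ (DD U I).d 0 1 = 0 := by
  ext j g
  exact d_aug (U := U) (P := (PI I).X j) (fun _ => le_top) g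

include hcov in
theorem mono_eps : Mono (eps U I) := by
  haveI : ∀ j, Mono ((eps U I).f j) := fun j => by
    rw [AddCommGrpCat.mono_iff_injective]
    intro g g' h
    refine TopCat.Sheaf.eq_of_locally_eq' (F := (I.X j : TopCat.Sheaf AddCommGrpCat.{u} X)) U ⊤
      (fun k => homOfLE le_top) hcov.ge g g' fun k => ?_
    change (aug (U := U) (P := (I.X j).obj) (fun _ => le_top)).hom g = (aug (fun _ => le_top)).hom g' at h
    have h1 := congrArg (fun z => res (I.X j).obj (show U k ≤ cap U (fun _ : Fin 1 => k) from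
        le_iInf fun _ => le_rfl) ((proj U (I.X j).obj (fun _ : Fin 1 => k)).hom z)) h
    erw [proj_aug, proj_aug, res_res, res_res] at h1
    exact h1
  exact HomologicalComplex.mono_of_mono_f (eps U I) inferInstance

include hcov in
theorem exact_eps : (ShortComplex.mk (eps U I) ((DD U I).d 0 1) (eps_d U I)).Exact := by
  refine HomologicalComplex.exact_of_degreewise_exact _ fun j => ?_
  rw [ShortComplex.ab_exact_iff]
  intro x hx
  exact CechLeray.exists_aug_eq (U := U) ⊤ (fun _ => le_top) hcov.ge (I.X j) hx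

theorem exactAt_DD [∀ j, Injective (I.X j)] (p : ℕ) : (DD U I).ExactAt (p + 1) := by
  rw [(DD U I).exactAt_iff' p (p + 1) (p + 1 + 1) (by simp) (by simp)]
  refine HomologicalComplex.exact_of_degreewise_exact _ fun j => ?_
  have h := CechLeray.isZero_cechH_of_flasque U (H10Coh.flasque_of_injective (I.X j)) p
  have h' := (HomologicalComplex.exactAt_iff_isZero_homology _ _).2 h
  rw [HomologicalComplex.exactAt_iff' _ p (p + 1) (p + 1 + 1) (by simp) (by simp)] at h'
  exact h'

theorem isZero_DD (a : ℤ) (ha : ∀ i, i < a → IsZero (I.X i)) (p : ℕ) (m : ℤ) (hm : m < a) :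
    IsZero (((DD U I).X p).X m) := by
  exact (Gp U p).map_isZero ((sheafToPresheaf _ AddCommGrpCat.{u}).map_isZero (ha m hm))

/-- Cohomology of the columns is the Čech complex of the cohomology presheaf. -/
noncomputable def colIso (m : ℤ) : E (DD U I) m ≅ (Cc U).obj ((PI I).homology m) :=
  HomologicalComplex.Hom.isoOfComponents (fun p => ((PI I).sc m).mapHomologyIso (Gp U p)) fun p q hpq => by
    obtain rfl : p + 1 = q := hpq
    have h := ShortComplex.homologyMap_mapNatTrans ((PI I).sc m) (τ U p)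
    have h' : (E (DD U I) m).d p (p + 1) = ShortComplex.homologyMap (((PI I).sc m).mapNatTrans (τ U p)) := rfl
    rw [h', h]
    simp
    rfl

theorem eps_homologyMap (n : ℤ) :
    HomologicalComplex.homologyMap (eps U I) n =
      (((PI I).sc n).mapHomologyIso ((evaluation _ AddCommGrpCat.{u}).obj (op (⊤ : Opens X)))).hom ≫
        (η U).app ((PI I).homology n) ≫ (((PI I).sc n).mapHomologyIso (Gp U 0)).inv :=
  ShortComplex.homologyMap_mapNatTrans ((PI I).sc n) (η U)

theorem isSubquotient_equiv {N N' T T' : Type u} [AddCommGroup N] [AddCommGroup N'] [AddCommGroup T] [AddCommGroup T']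
    (h : HTor.IsSubquotient ℤ N T) (eN : N ≃ₗ[ℤ] N') (eT : T ≃ₗ[ℤ] T') : HTor.IsSubquotient ℤ N' T' := by
  obtain ⟨S, S', hS, ⟨q⟩⟩ := h
  refine ⟨S.map eT.toLinearMap, S'.map eT.toLinearMap, Submodule.map_mono hS,
    ⟨eN.symm.trans (q.trans (Submodule.Quotient.equiv _ _ (eT.submoduleMap S') ?_))⟩⟩
  ext ⟨y, hy⟩
  simp only [Submodule.mem_map, Submodule.mem_comap, Submodule.coe_subtype]
  constructor
  · rintro ⟨x, hx, he⟩
    exact ⟨x.1, hx, congrArg Subtype.val he⟩
  · rintro ⟨x, hx, rfl⟩
    exact ⟨⟨x, hS hx⟩, hx, Subtype.ext rfl⟩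

theorem exists_injective_resolution [HasDerivedCategory.{u} (CohTop.Ab X)] (K : CochainComplex (CohTop.Ab X) ℤ)
    (a : ℤ) (ha : ∀ i : ℤ, i < a → IsZero (K.X i)) :
    ∃ (I : CochainComplex (CohTop.Ab X) ℤ) (i : K ⟶ I), QuasiIso i ∧ (∀ j, Injective (I.X j)) ∧
      (∀ j, j < a → IsZero (I.X j)) := by
  haveI : EnoughInjectives (CohTop.Ab X) := H10Coh.enoughInjAb X
  haveI : K.IsStrictlyGE a := (CochainComplex.isStrictlyGE_iff K a).2 ha
  obtain ⟨I, i, hi, hI, hge⟩ := CochainComplex.Plus.modelCategoryQuillen.exists_quasiIso_injective K a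
  exact ⟨I, i, hi, hI, fun j hj => (CochainComplex.isStrictlyGE_iff I a).1 hge j hj⟩

include hcov in
theorem exists_filtration_HDU [HasDerivedCategory.{u} (CohTop.Ab X)]
    (K : CochainComplex (CohTop.Ab X) ℤ) (a : ℤ) (ha : ∀ i : ℤ, i < a → IsZero (K.X i)) (n : ℤ) :
    ∃ (N : ℕ) (G : ℕ → Submodule ℤ (CohCx.HDU (DerivedCategory.Q.obj K) n (⊤ : Opens X))),
      Antitone G ∧ G 0 = ⊤ ∧ G N = ⊥ ∧
      G 1 = ⨅ i, AddSubgroup.toIntSubmodule
        (CohCx.HDUres (DerivedCategory.Q.obj K) n (homOfLE le_top : U i ⟶ (⊤ : Opens X))).ker ∧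
      ∀ p : ℕ, HTor.IsSubquotient ℤ (HTor.grDesc G p)
        (CohB1.cechHTop U (CohCx.HDUPresheaf (DerivedCategory.Q.obj K) (n - p)) p) := by
  obtain ⟨I, i, hi, hI, hIa⟩ := exists_injective_resolution K a ha
  haveI := hI
  haveI : I.IsStrictlyGE a := (CochainComplex.isStrictlyGE_iff I a).2 hIa
  haveI : I.IsKInjective := CochainComplex.isKInjective_of_injective I a
  haveI : IsIso (DerivedCategory.Q.map i) := (DerivedCategory.isIso_Q_map_iff_quasiIso _ i).2 hi
  let eQ : ∀ m : ℤ, CohCx.HDUPresheaf (DerivedCategory.Q.obj I) m ≅ CohCx.HDUPresheaf (DerivedCategory.Q.obj K) m :=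
    fun m => Functor.isoWhiskerLeft _ (preadditiveYoneda.mapIso
      ((CategoryTheory.shiftFunctor _ m).mapIso (asIso (DerivedCategory.Q.map i)).symm))
  let e : ∀ m : ℤ, (PI I).homology m ≅ CohCx.HDUPresheaf (DerivedCategory.Q.obj K) m := fun m =>
    (nonempty_iso I m).some ≪≫ eQ m
  haveI := mono_eps U hcov I
  obtain ⟨N, F, hanti, h0, hN, h1, hgr⟩ := exists_filtration (DD U I) (eps U I) (eps_d U I) (exact_eps U hcov I)
    (exactAt_DD U I) n a (isZero_DD U I a hIa)
  let Φ : (ΓI I).homology n ≅ (CohCx.HDUPresheaf (DerivedCategory.Q.obj K) n).obj (op ⊤) :=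
    ((PI I).sc n).mapHomologyIso ((evaluation _ AddCommGrpCat.{u}).obj (op (⊤ : Opens X))) ≪≫ (e n).app (op ⊤)
  let φ : (ΓI I).homology n ≃ₗ[ℤ] CohCx.HDU (DerivedCategory.Q.obj K) n (⊤ : Opens X) :=
    Φ.addCommGroupIsoToAddEquiv.toIntLinearEquiv
  refine ⟨N, fun p => (F p).map φ.toLinearMap, fun p q h => Submodule.map_mono (hanti h), ?_, ?_, ?_, fun p => ?_⟩
  · show (F 0).map _ = ⊤
    rw [h0, Submodule.map_top, LinearEquiv.range]
  · show (F N).map _ = ⊥
    rw [hN, Submodule.map_bot]
  · show (F 1).map _ = _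
    rw [h1]
    ext y
    obtain ⟨x, rfl⟩ := φ.surjective y
    rw [Submodule.mem_map_equiv, LinearEquiv.symm_apply_apply, Submodule.mem_iInf]
    let h := ((((PI I).sc n).mapHomologyIso ((evaluation _ AddCommGrpCat.{u}).obj (op (⊤ : Opens X)))).hom).hom x
    have key : ∀ k, (CohCx.HDUres (DerivedCategory.Q.obj K) n (homOfLE le_top : U k ⟶ (⊤ : Opens X))) (φ x) =
        ((e n).hom.app (op (U k))).hom ((((PI I).homology n).map (homOfLE le_top : U k ⟶ (⊤ : Opens X)).op).hom h) :=
      fun k => (ConcreteCategory.congr_hom ((e n).hom.naturality (homOfLE le_top : U k ⟶ (⊤ : Opens X)).op) h).symm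
    have hker : (HomologicalComplex.homologyMap (eps U I) n).hom x = 0 ↔
        ∀ k, (((PI I).homology n).map (homOfLE le_top : U k ⟶ (⊤ : Opens X)).op).hom h = 0 := by
      rw [eps_homologyMap]
      have hinj : Function.Injective ((((PI I).sc n).mapHomologyIso (Gp U 0)).inv).hom :=
        (AddCommGrpCat.mono_iff_injective _).1 inferInstance
      constructor
      · intro hx k
        have h2 : (aug (U := U) (P := (PI I).homology n) (fun _ => le_top)).hom h = 0 := hinj (hx.trans (map_zero ((((PI I).sc n).mapHomologyIso (Gp U 0)).inv).hom).symm)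
        have h3 := congrArg (fun z => res ((PI I).homology n) (show U k ≤ cap U (fun _ : Fin 1 => k) from
          le_iInf fun _ => le_rfl) ((proj U ((PI I).homology n) (fun _ : Fin 1 => k)).hom z)) h2
        simp only [proj_aug, res_res, map_zero] at h3
        exact h3
      · intro hk
        have h2 : (aug (U := U) (P := (PI I).homology n) (fun _ => le_top)).hom h = 0 := by
          refine CechTop.hom_ext U _ fun b => ?_
          rw [proj_aug, map_zero, ← res_res ((PI I).homology n) (show U (b 0) ≤ ⊤ from le_top) (iInf_le _ 0)]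
          exact (congrArg _ (hk (b 0))).trans (map_zero _)
        exact (congrArg ((((PI I).sc n).mapHomologyIso (Gp U 0)).inv).hom h2).trans
          (map_zero ((((PI I).sc n).mapHomologyIso (Gp U 0)).inv).hom)
    show x ∈ AddSubgroup.toIntSubmodule _ ↔ ∀ k, φ x ∈ AddSubgroup.toIntSubmodule _
    change (HomologicalComplex.homologyMap (eps U I) n).hom x = 0 ↔ ∀ k, CohCx.HDUres _ n _ (φ x) = 0
    rw [hker]
    refine forall_congr' fun k => ?_
    rw [key]
    exact (map_eq_zero_iff _ ((AddCommGrpCat.mono_iff_injective _).1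
      (inferInstanceAs (Mono ((e n).hom.app (op (U k))))))).symm
  · let eT : (E (DD U I) (n - p)).homology p ≅ CohB1.cechHTop U (CohCx.HDUPresheaf (DerivedCategory.Q.obj K) (n - p)) p :=
      (HomologicalComplex.homologyFunctor AddCommGrpCat.{u} (ComplexShape.up ℕ) p).mapIso
        (colIso U I (n - p) ≪≫ (Cc U).mapIso (e (n - p)))
    refine isSubquotient_equiv (hgr p) ?_ eT.addCommGroupIsoToAddEquiv.toIntLinearEquiv
    refine Submodule.Quotient.equiv _ _ (φ.submoduleMap (F p)) ?_
    ext ⟨y, hy⟩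
    simp only [Submodule.mem_map, Submodule.mem_comap, Submodule.coe_subtype]
    constructor
    · rintro ⟨x, hx, he⟩
      exact ⟨x.1, hx, congrArg Subtype.val he⟩
    · rintro ⟨x, hx, rfl⟩
      exact ⟨⟨x, hanti (Nat.le_succ p) hx⟩, hx, Subtype.ext rfl⟩

end Groth.Agent.H15Site.CechTot2
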